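import Mathlib
import Groth.Prelude.Def_RegImm
import Groth.Agent.TransRegLib.Chart

/-!
# Regular immersions in affine space, as quotients by regular sequences in one more variable
-/

set_option autoImplicit false
set_option backward.isDefEq.respectTransparency false
set_option backward.defeqAttrib.useBackward true
set_option linter.style.haveILetI false

universe u

open CategoryTheory AlgebraicGeometry RingTheory.Sequence
open scoped Pointwise

namespace Groth.Agent.RegPresLib

/-- Weakly regular sequences transfer along ring isomorphisms. -/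
theorem isWeaklyRegular_map_ringEquiv {R S : Type u} [CommRing R] [CommRing S] (e : R ≃+* S) {rs : List R}
    (h : IsWeaklyRegular R rs) : IsWeaklyRegular S (rs.map e) :=
  (e.toAddEquiv.isWeaklyRegular_congr <| List.forall₂_map_right_iff.mpr <|
    List.forall₂_same.mpr fun r _ x => map_mul e r x).mp h

/-- Sections over a basic open of an affine scheme. -/
theorem exists_equiv_away {R : Type u} [CommRing R] (h0 : R)
    (_hV : IsAffineOpen (X := Spec (CommRingCat.of R)) (PrimeSpectrum.basicOpen h0)) :
    ∃ e : Γ(Spec (CommRingCat.of R), PrimeSpectrum.basicOpen h0) ≃+* Localization.Away h0, ∀ r : R,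
      e ((Spec (CommRingCat.of R)).presheaf.map (homOfLE le_top).op
        ((Scheme.ΓSpecIso (CommRingCat.of R)).inv r)) = algebraMap R (Localization.Away h0) r := by
  refine ⟨(IsLocalization.algEquiv (Submonoid.powers h0)
    ((Spec.structureSheaf R).obj.obj (Opposite.op (PrimeSpectrum.basicOpen h0))) (Localization.Away h0)).toRingEquiv,
    fun r => ?_⟩
  refine Eq.trans ?_ ((IsLocalization.algEquiv (Submonoid.powers h0)
    ((Spec.structureSheaf R).obj.obj (Opposite.op (PrimeSpectrum.basicOpen h0))) (Localization.Away h0)).commutes r)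
  refine congrArg _ ?_
  rfl

/-- Near a point of a regular immersion in an affine scheme the ideal is generated by a regular sequence on a
basic open. -/
theorem exists_away_isWeaklyRegular {R : Type u} [CommRing R] (I : Ideal R)
    (h : RegImm.IsRegularImmersion RegImm.Kind.regular (Spec.map (CommRingCat.ofHom (Ideal.Quotient.mk I))))
    (q : PrimeSpectrum (R ⧸ I)) :
    ∃ h0 : R, Ideal.Quotient.mk I h0 ∉ q.asIdeal ∧ ∃ rs : List (Localization.Away h0),
      IsWeaklyRegular (Localization.Away h0) rs ∧ I.map (algebraMap R (Localization.Away h0)) = Ideal.ofList rs := by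
  let X : Scheme.{u} := Spec (CommRingCat.of R)
  let i := Spec.map (CommRingCat.ofHom (Ideal.Quotient.mk I))
  obtain ⟨U, hqU, hc, rs, hrs, hK⟩ := h.2 q
  haveI : IsClosedImmersion i := IsClosedImmersion.spec_of_surjective _ Ideal.Quotient.mk_surjective
  obtain ⟨_, ⟨h0, rfl⟩, hq0, hle⟩ :=
    PrimeSpectrum.isTopologicalBasis_basic_opens.exists_subset_of_mem_open hqU U.1.2
  refine ⟨h0, hq0, ?_⟩
  let V : X.Opens := PrimeSpectrum.basicOpen h0
  have hV : IsAffineOpen V := by
    rw [show V = X.basicOpen ((Scheme.ΓSpecIso (CommRingCat.of R)).inv h0) from (basicOpen_eq_of_affine h0).symm]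
    exact (isAffineOpen_top X).basicOpen _
  have hVU : V ≤ U.1 := hle
  obtain ⟨-, hk1⟩ := TransRegLib.closed_and_ker_restrict i U.2 hc hV hVU
  obtain ⟨-, hk2⟩ := TransRegLib.closed_and_ker_restrict i (isAffineOpen_top X)
    (IsZariskiLocalAtTarget.restrict (P := @IsClosedImmersion) inferInstance ⊤) hV le_top
  let ρ := (X.presheaf.map (homOfLE hVU).op).hom
  have hρflat : ρ.Flat := by
    have := HasRingHomProperty.appLE (P := @Flat) (𝟙 X) inferInstance U ⟨V, hV⟩ (show V ≤ (𝟙 X) ⁻¹ᵁ U.1 from hVU)
    simpa [Scheme.Hom.appLE] using this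
  have hw : IsWeaklyRegular Γ(X, V) (rs.map ρ) := by
    letI : Algebra Γ(X, U.1) Γ(X, V) := ρ.toAlgebra
    haveI : Module.Flat Γ(X, U.1) Γ(X, V) := hρflat
    exact IsWeaklyRegular.of_flat (R := Γ(X, U.1)) (S := Γ(X, V)) hrs.toIsWeaklyRegular
  have htop : RingHom.ker (i.app ⊤).hom = I.map (Scheme.ΓSpecIso (CommRingCat.of R)).inv.hom := by
    have hn : CommRingCat.ofHom (Ideal.Quotient.mk I) ≫ (Scheme.ΓSpecIso _).inv =
        (Scheme.ΓSpecIso _).inv ≫ i.appTop := Scheme.ΓSpecIso_inv_naturality _
    have hbij := ConcreteCategory.bijective_of_isIso (Scheme.ΓSpecIso (CommRingCat.of R)).inv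
    have hbij' := ConcreteCategory.bijective_of_isIso (Scheme.ΓSpecIso (CommRingCat.of (R ⧸ I))).inv
    ext a
    obtain ⟨r, rfl⟩ := hbij.2 a
    have hr : i.appTop ((Scheme.ΓSpecIso (CommRingCat.of R)).inv r) =
        (Scheme.ΓSpecIso (CommRingCat.of (R ⧸ I))).inv (Ideal.Quotient.mk I r) :=
      (congrArg (fun g => (ConcreteCategory.hom g) r) hn).symm
    rw [RingHom.mem_ker, Ideal.mem_map_iff_of_surjective _ hbij.2]
    constructor
    · intro h0r
      refine ⟨r, ?_, rfl⟩
      rw [← Ideal.Quotient.eq_zero_iff_mem]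
      apply hbij'.1
      rw [map_zero, ← hr]
      exact h0r
    · rintro ⟨s, hs, hsr⟩
      rw [← hbij.1 hsr]
      show i.appTop _ = 0
      rw [show i.appTop ((Scheme.ΓSpecIso (CommRingCat.of R)).inv s) = _ from
        (congrArg (fun g => (ConcreteCategory.hom g) s) hn).symm]
      show (Scheme.ΓSpecIso (CommRingCat.of (R ⧸ I))).inv (Ideal.Quotient.mk I s) = 0
      rw [Ideal.Quotient.eq_zero_iff_mem.mpr hs, map_zero]
  obtain ⟨e, he⟩ := exists_equiv_away h0 hV
  refine ⟨(rs.map ρ).map e.toRingHom, isWeaklyRegular_map_ringEquiv e hw, ?_⟩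
  rw [← Ideal.map_ofList, ← Ideal.map_ofList, ← hK]
  show _ = Ideal.map e.toRingHom (Ideal.map ρ (RingHom.ker (i.app U.1).hom))
  rw [← hk1, hk2, htop, Ideal.map_map, Ideal.map_map]
  congr 1
  exact (RingHom.ext he).symm

open Polynomial in
/-- The algebra statement. -/
theorem exists_regular_presentation {A R : Type u} [CommRing A] [CommRing R] [Algebra A R] (I : Ideal R) (h0 : R)
    (rs : List (Localization.Away h0)) (hrs : IsWeaklyRegular (Localization.Away h0) rs)
    (hI : I.map (algebraMap R (Localization.Away h0)) = Ideal.ofList rs) :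
    ∃ (ps : List (Polynomial R)) (φ : Polynomial R →ₐ[A] Localization.Away (Ideal.Quotient.mk I h0)),
      IsWeaklyRegular (Polynomial R) ps ∧ Function.Surjective φ ∧ RingHom.ker φ = Ideal.ofList ps := by
  classical
  let L := Localization.Away h0
  let p0 : Polynomial R := C h0 * X - 1
  let e : L ≃ₐ[R] AdjoinRoot p0 := Localization.awayEquivAdjoin h0
  let π : Polynomial R →ₐ[R] L := e.symm.toAlgHom.comp (AdjoinRoot.mkₐ p0)
  have hπs : Function.Surjective π := e.symm.surjective.comp AdjoinRoot.mk_surjective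
  have hπk : RingHom.ker π = Ideal.span {p0} := by
    ext x
    rw [RingHom.mem_ker]
    show e.symm (AdjoinRoot.mkₐ p0 x) = 0 ↔ _
    rw [map_eq_zero_iff _ e.symm.injective, AdjoinRoot.coe_mkₐ, AdjoinRoot.mk_eq_zero, Ideal.mem_span_singleton]
  let ps : List (Polynomial R) := rs.map (Function.surjInv hπs)
  have hps : ps.map π = rs := by simp [ps, Function.comp_def, Function.surjInv_eq hπs]
  have hp0 : IsSMulRegular (Polynomial R) p0 := by
    have h1 : p0.coeff 0 ∈ nonZeroDivisors R := by
      simp [p0, ← IsUnit.mem_submonoid_iff, isUnit_one.neg.mem_nonZeroDivisors]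
    exact (mem_nonZeroDivisors_iff_right.mp (Polynomial.mem_nonzeroDivisors_of_coeff_mem _ h1) |> fun h a b hab => by
      refine sub_eq_zero.mp (h (a - b) ?_)
      rw [sub_mul, mul_comm a, mul_comm b, sub_eq_zero]
      exact hab)
  have hreg : IsWeaklyRegular (Polynomial R) (p0 :: ps) := by
    letI : Algebra (Polynomial R) L := π.toRingHom.toAlgebra
    refine (isWeaklyRegular_cons_iff _ _ _).mpr ⟨hp0, ?_⟩
    let lin : Polynomial R →ₗ[Polynomial R] L := Algebra.linearMap (Polynomial R) L
    have hlk : LinearMap.ker lin = p0 • (⊤ : Submodule (Polynomial R) (Polynomial R)) := by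
      ext x
      rw [LinearMap.mem_ker, Submodule.mem_smul_pointwise_iff_exists]
      show π x = 0 ↔ _
      rw [← RingHom.mem_ker, hπk, Ideal.mem_span_singleton']
      exact ⟨fun ⟨a, ha⟩ => ⟨a, trivial, by rw [smul_eq_mul, mul_comm, ha]⟩,
        fun ⟨a, _, ha⟩ => ⟨a, by rw [mul_comm, ← smul_eq_mul, ha]⟩⟩
    let eq : QuotSMulTop p0 (Polynomial R) ≃ₗ[Polynomial R] L :=
      (Submodule.quotEquivOfEq _ _ hlk.symm).trans (lin.quotKerEquivOfSurjective hπs)
    rw [eq.isWeaklyRegular_congr, ← isWeaklyRegular_map_algebraMap_iff L L]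
    show IsWeaklyRegular L (ps.map π)
    rw [hps]
    exact hrs
  let T := Localization.Away (Ideal.Quotient.mk I h0)
  let χ : L →+* T := IsLocalization.map T (Ideal.Quotient.mk I)
    ((Submonoid.map_powers (Ideal.Quotient.mk I) h0).symm ▸ (Submonoid.powers h0).le_comap_map)
  haveI : IsLocalization (Submonoid.map (Ideal.Quotient.mk I) (Submonoid.powers h0)) T := by
    rw [Submonoid.map_powers]; infer_instance
  have hχs : Function.Surjective χ :=
    IsLocalization.map_surjective_of_surjective (Q := T) (S := L) (M := Submonoid.powers h0) Ideal.Quotient.mk_surjective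
  have hχk : RingHom.ker χ = Ideal.ofList rs := by
    rw [← hI]
    conv_rhs => rw [← Ideal.mk_ker (I := I)]
    exact IsLocalization.ker_map (S := L) T (Ideal.Quotient.mk I) (Submonoid.map_powers _ _)
  let φ : Polynomial R →ₐ[A] T :=
    { toRingHom := χ.comp π.toRingHom
      commutes' := fun a => by
        show χ (π (algebraMap A (Polynomial R) a)) = _
        rw [IsScalarTower.algebraMap_apply A R (Polynomial R), π.commutes]
        show χ (algebraMap R L (algebraMap A R a)) = _
        rw [IsLocalization.map_eq]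
        rfl }
  refine ⟨p0 :: ps, φ, hreg, hχs.comp hπs, ?_⟩
  show RingHom.ker (χ.comp π.toRingHom) = _
  rw [← RingHom.comap_ker, hχk, ← hps, show (ps.map π) = ps.map π.toRingHom from rfl, ← Ideal.map_ofList]
  show ((Ideal.ofList ps).map π.toRingHom).comap π.toRingHom = _
  rw [Ideal.comap_map_of_surjective' π.toRingHom hπs]
  rw [show RingHom.ker π.toRingHom = RingHom.ker π from rfl, hπk, Ideal.ofList_cons, sup_comm]

end Groth.Agent.RegPresLib
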